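import Cfsg.Agent.Lib.Block.PSLSquare.Degrees
import Cfsg.Agent.Lib.Block.Separated
import Cfsg.Agent.Lib.Invol.Order95040.Basic
import Cfsg.Agent.Lib.Char.Galois

/-!
A group with the degrees of `PSL(2, p²)`: the elements split into three kinds by the primes of their orders,
and there are `p⁴ - 1` non-trivial elements of order a power of `p`.
-/

set_option autoImplicit false
set_option linter.style.haveILetI false
set_option linter.unusedSectionVars false

namespace Cfsg.Agent.Block.PSLSquare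

open scoped ComplexConjugate
open Cfsg Cfsg.Agent.Block Cfsg.Agent.Char
open Cfsg.Agent.Invol.M12Ord (cn dg norm_le)

universe u

/-- The data: `q = p²`, `n = q - 1` and `m = (q + 1) / 2`. -/
structure Hyp (G : Type u) [Group G] [Finite G] (p q n m : ℕ) : Prop where
  hp : p.Prime
  p3 : 3 ≤ p
  hq : q = p ^ 2
  hn : n + 1 = q
  hm : 2 * m = q + 1
  card : Nat.card G = q * n * m
  deg : ∀ χ : IrrCharacter G, Deg q (dg χ)
  lin : ∀ χ : IrrCharacter G, dg χ = 1 → χ = trivialIrr G
  st : ∃ S : IrrCharacter G, dg S = q ∧ ∀ χ : IrrCharacter G, dg χ = q → χ = S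

/-- An integral multiple equation forces divisibility. -/
theorem dvd_of_integral {k : ℤ} {n : ℕ} (hn : n ≠ 0) {B : ℂ} (hB : IsIntegral ℤ B)
    (h : (k : ℂ) + (n : ℂ) * B = 0) : (n : ℤ) ∣ k := by
  have hn' : (n : ℂ) ≠ 0 := Nat.cast_ne_zero.2 hn
  have hBq : B = (((-(k : ℚ)) / n : ℚ) : ℂ) := by
    push_cast
    rw [eq_div_iff hn']
    linear_combination h
  obtain ⟨j, hj⟩ := int_of_isIntegral_rat (q := -(k : ℚ) / n) (hBq ▸ hB)
  have hBj : B = (j : ℂ) := by rw [hBq, hj]
  refine ⟨-j, ?_⟩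
  apply Int.cast_injective (α := ℂ)
  rw [hBj] at h
  push_cast
  linear_combination h

variable {G : Type u} [Group G] [Finite G] {p q n m : ℕ} (H : Hyp G p q n m)
include H

theorem Hyp.q9 : 9 ≤ q := by
  rw [H.hq, pow_two]
  exact Nat.mul_le_mul H.p3 H.p3

theorem Hyp.q8 : q % 8 = 1 := by
  obtain ⟨k, rfl⟩ := H.hp.odd_of_ne_two (by have := H.p3; omega)
  obtain ⟨l, hl⟩ := Nat.even_mul_succ_self k
  rw [H.hq, show (2 * k + 1) ^ 2 = 4 * (k * (k + 1)) + 1 by ring, hl]
  omega

theorem Hyp.cop_qn : Nat.Coprime q n := by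
  rw [← H.hn]
  simp

theorem Hyp.cop_nm : Nat.Coprime n m := by
  have h8 := H.q8
  have hn := H.hn
  have hm := H.hm
  have h2 : Nat.gcd n m ∣ 2 := by
    have h1 := Nat.gcd_dvd_left n m
    have h2 := (Nat.gcd_dvd_right n m).mul_left 2
    rw [show 2 * m = n + 2 by omega] at h2
    exact (Nat.dvd_add_right h1).1 h2
  rcases (Nat.dvd_prime Nat.prime_two).1 h2 with h | h
  · exact h
  · have h1 : 2 ∣ m := h ▸ Nat.gcd_dvd_right n m
    omega

theorem Hyp.cop_qm : Nat.Coprime q m := by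
  have h : Nat.Coprime q (q + 1) := by simp
  exact h.coprime_dvd_right ⟨2, by rw [← H.hm, mul_comm]⟩

/-- A prime divisor of `n` has its full part of the group order in the degree `n`. -/
theorem Hyp.full_n {r : ℕ} (hr : r.Prime) (hd : r ∣ n) {d : ℕ} (hdn : d + 1 = q) :
    d.factorization r = (Nat.card G).factorization r := by
  have hq := H.q9
  have hn := H.hn
  have hm := H.hm
  have hq' : ¬ r ∣ q := fun h => hr.not_dvd_one (by
    have := Nat.dvd_gcd h hd
    rwa [H.cop_qn] at this)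
  have hm' : ¬ r ∣ m := fun h => hr.not_dvd_one (by
    have := Nat.dvd_gcd hd h
    rwa [H.cop_nm] at this)
  rw [H.card, Nat.factorization_mul (Nat.mul_ne_zero (by omega) (by omega)) (by omega),
    Nat.factorization_mul (by omega) (by omega), Finsupp.add_apply, Finsupp.add_apply,
    Nat.factorization_eq_zero_of_not_dvd hq', Nat.factorization_eq_zero_of_not_dvd hm',
    show d = n by omega]
  simp

/-- A prime divisor of `m` has its full part of the group order in the degrees `m` and `2 * m`. -/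
theorem Hyp.full_m {r : ℕ} (hr : r.Prime) (hd : r ∣ m) {d : ℕ} (hdm : d = q + 1 ∨ 2 * d = q + 1) :
    d.factorization r = (Nat.card G).factorization r := by
  have hq := H.q9
  have h8 := H.q8
  have hn := H.hn
  have hm := H.hm
  have hq' : ¬ r ∣ q := fun h => hr.not_dvd_one (by
    have := Nat.dvd_gcd h hd
    rwa [H.cop_qm] at this)
  have hn' : ¬ r ∣ n := fun h => hr.not_dvd_one (by
    have := Nat.dvd_gcd h hd
    rwa [H.cop_nm] at this)
  have hr2 : ¬ r ∣ 2 := fun h => by
    rw [(Nat.prime_dvd_prime_iff_eq hr Nat.prime_two).1 h] at hd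
    omega
  rw [H.card, Nat.factorization_mul (Nat.mul_ne_zero (by omega) (by omega)) (by omega),
    Nat.factorization_mul (by omega) (by omega), Finsupp.add_apply, Finsupp.add_apply,
    Nat.factorization_eq_zero_of_not_dvd hq', Nat.factorization_eq_zero_of_not_dvd hn']
  rcases hdm with h | h
  · rw [show d = 2 * m by omega, Nat.factorization_mul (by omega) (by omega), Finsupp.add_apply,
      Nat.factorization_eq_zero_of_not_dvd hr2]
  · rw [show d = m by omega]
    simp

/-- Characters whose degree has full `r`-part vanish on `r`-singular elements. -/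
theorem Hyp.vanish {r : ℕ} (hr : r.Prime) (χ : IrrCharacter G)
    (hfull : (dg χ).factorization r = (Nat.card G).factorization r) {g : G} (hg : r ∣ orderOf g) :
    (χ : G → ℂ) g = 0 := by
  haveI : Fact r.Prime := ⟨hr⟩
  obtain ⟨M, hM⟩ := exists_isPModular r hr
  exact defectZero_vanish hM χ hfull hg

variable {S : IrrCharacter G} (hS : dg S = q) (hu : ∀ χ : IrrCharacter G, dg χ = q → χ = S)
include hS hu

/-- The Steinberg-like character is rational. -/
theorem Hyp.int_st (g : G) : ∃ a : ℤ, (S : G → ℂ) g = a := by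
  refine IsChar.exists_int_of_fixed (IsIrr.isCharacter S.2) g fun k hk => ?_
  obtain ⟨k', hk', hmod⟩ := exists_coprime_lift (Nat.card_pos (α := G)) (orderOf_dvd_natCard g) hk
  have h := hu ⟨_, IsIrr.pow_map S.2 hk'⟩ (by
    show charDegree (fun x : G => (S : G → ℂ) (x ^ k')) = q
    rw [charDegree, one_pow]
    exact hS)
  have h' := congrFun (congrArg (fun χ : IrrCharacter G => (χ : G → ℂ)) h) g
  rw [← h']
  show (S : G → ℂ) (g ^ k) = (S : G → ℂ) (g ^ k')
  rw [pow_eq_pow_iff_modEq.2 hmod]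

/-- The column relation, when only one kind of degree survives besides the first two. -/
theorem Hyp.column {g : G} (hg : g ≠ 1) {a : ℤ} (ha : (S : G → ℂ) g = a) {d : ℕ} (hd : d ≠ 0)
    (hall : ∀ χ : IrrCharacter G, χ ≠ trivialIrr G → χ ≠ S → (χ : G → ℂ) g = 0 ∨ d ∣ dg χ) :
    (d : ℤ) ∣ 1 + (q : ℤ) * a := by
  classical
  have h := regular_expansion g
  rw [if_neg hg] at h
  have hne : trivialIrr G ≠ S := fun e => by
    have h1 : dg (trivialIrr G) = 1 := charDeg_trivial
    rw [e, hS] at h1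
    have := H.q9
    omega
  rw [← Finset.sum_sdiff (Finset.subset_univ {trivialIrr G, S}), Finset.sum_pair hne] at h
  rw [Finset.sum_congr rfl (g := fun χ : IrrCharacter G => (d : ℂ) * (((dg χ / d : ℕ) : ℂ) * (χ : G → ℂ) g))
    fun χ hχ => by
      simp only [Finset.mem_sdiff, Finset.mem_insert, Finset.mem_singleton, not_or] at hχ
      rw [Invol.M12Ord.value_one]
      rcases hall χ hχ.2.1 hχ.2.2 with e | e
      · rw [e, mul_zero, mul_zero, mul_zero]
      · rw [← mul_assoc, ← Nat.cast_mul, Nat.mul_div_cancel' e],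
    ← Finset.mul_sum, Invol.M12Ord.value_one, Invol.M12Ord.value_one, hS, ha,
    show dg (trivialIrr G) = 1 from charDeg_trivial,
    show (trivialIrr G : G → ℂ) g = 1 from rfl] at h
  refine dvd_of_integral hd ?_ (B := ∑ χ ∈ Finset.univ \ {trivialIrr G, S}, ((dg χ / d : ℕ) : ℂ) * (χ : G → ℂ) g) ?_
  · exact IsIntegral.sum _ fun χ _ => (isIntegral_natCast _).mul (IsChar.isIntegral (IsIrr.isCharacter χ.2) g)
  · push_cast
    simp only [Nat.cast_one, one_mul] at h
    linear_combination h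

theorem Hyp.other {χ : IrrCharacter G} (h1 : χ ≠ trivialIrr G) (h2 : χ ≠ S) :
    dg χ = q + 1 ∨ dg χ + 1 = q ∨ 2 * dg χ = q + 1 := by
  rcases H.deg χ with h | h | h
  · exact absurd (H.lin χ h) h1
  · exact absurd (hu χ h) h2
  · exact h

theorem Hyp.val_n {g : G} (hg : g ≠ 1) {r : ℕ} (hr : r.Prime) (hrn : r ∣ n) (ho : r ∣ orderOf g) {a : ℤ}
    (ha : (S : G → ℂ) g = a) : (m : ℤ) ∣ 1 + (q : ℤ) * a := by
  refine H.column hS hu hg ha (by have := H.hm; omega) fun χ h1 h2 => ?_
  rcases H.other hS hu h1 h2 with h | h | h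
  · exact Or.inr ⟨2, by rw [h, ← H.hm, mul_comm]⟩
  · exact Or.inl (H.vanish hr χ (H.full_n hr hrn h) ho)
  · exact Or.inr ⟨1, by have := H.hm; omega⟩

theorem Hyp.val_m {g : G} (hg : g ≠ 1) {r : ℕ} (hr : r.Prime) (hrm : r ∣ m) (ho : r ∣ orderOf g) {a : ℤ}
    (ha : (S : G → ℂ) g = a) : (n : ℤ) ∣ 1 + (q : ℤ) * a := by
  refine H.column hS hu hg ha (by have := H.hn; have := H.q9; omega) fun χ h1 h2 => ?_
  rcases H.other hS hu h1 h2 with h | h | h
  · exact Or.inl (H.vanish hr χ (H.full_m hr hrm (Or.inl h)) ho)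
  · exact Or.inr ⟨1, by have := H.hn; omega⟩
  · exact Or.inl (H.vanish hr χ (H.full_m hr hrm (Or.inr h)) ho)

theorem Hyp.val_p {g : G} (ho : p ∣ orderOf g) : (S : G → ℂ) g = 0 := by
  have hq := H.q9
  refine H.vanish H.hp S ?_ ho
  have hp1 : ¬ p ∣ n := fun h => H.hp.not_dvd_one (by
    have := Nat.dvd_gcd (show p ∣ q from H.hq ▸ dvd_pow_self p two_ne_zero) h
    rwa [H.cop_qn] at this)
  have hp2 : ¬ p ∣ m := fun h => H.hp.not_dvd_one (by
    have := Nat.dvd_gcd (show p ∣ q from H.hq ▸ dvd_pow_self p two_ne_zero) h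
    rwa [H.cop_qm] at this)
  rw [hS, H.card, Nat.factorization_mul (Nat.mul_ne_zero (by omega) (by have := H.hn; omega))
      (by have := H.hm; omega),
    Nat.factorization_mul (by omega) (by have := H.hn; omega), Finsupp.add_apply, Finsupp.add_apply,
    Nat.factorization_eq_zero_of_not_dvd hp1, Nat.factorization_eq_zero_of_not_dvd hp2]
  simp

/-- All prime divisors of the order of an element divide the same one of `q`, `n`, `m`. -/
theorem Hyp.pure {g : G} {r r' : ℕ} (hr : r.Prime) (hr' : r'.Prime) (h : r ∣ orderOf g) (h' : r' ∣ orderOf g) :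
    (r ∣ q → r' ∣ q) ∧ (r ∣ n → r' ∣ n) ∧ (r ∣ m → r' ∣ m) := by
  have hq := H.q9
  have hn := H.hn
  have hm := H.hm
  have hg : g ≠ 1 := fun e => by rw [e, orderOf_one] at h; exact hr.not_dvd_one h
  obtain ⟨a, ha⟩ := H.int_st hS hu g
  have hcases : ∀ s : ℕ, s.Prime → s ∣ orderOf g → s ∣ q ∨ s ∣ n ∨ s ∣ m := fun s hs hso => by
    have hd := hso.trans (orderOf_dvd_natCard g)
    rw [H.card] at hd
    rcases hs.dvd_mul.1 hd with hd | hd
    · exact (hs.dvd_mul.1 hd).imp id Or.inl
    · exact Or.inr (Or.inr hd)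
  have hpq : ∀ s : ℕ, s.Prime → s ∣ q → s = p := fun s hs hsq =>
    (Nat.prime_dvd_prime_iff_eq hs H.hp).1 (hs.dvd_of_dvd_pow (n := 2) (H.hq ▸ hsq))
  have key : ∀ s t : ℕ, s.Prime → t.Prime → s ∣ orderOf g → t ∣ orderOf g →
      ¬ (s ∣ q ∧ t ∣ n) ∧ ¬ (s ∣ q ∧ t ∣ m) ∧ ¬ (s ∣ n ∧ t ∣ m) := by
    intro s t hs ht hso hto
    refine ⟨fun ⟨h1, h2⟩ => ?_, fun ⟨h1, h2⟩ => ?_, fun ⟨h1, h2⟩ => ?_⟩
    · have hv := H.val_n hS hu hg ht h2 hto ha
      have ha0 : a = 0 := by
        have := H.val_p hS hu (hpq s hs h1 ▸ hso : p ∣ orderOf g)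
        rw [ha, Int.cast_eq_zero] at this
        exact this
      rw [ha0, mul_zero, add_zero] at hv
      have := Int.le_of_dvd one_pos hv
      omega
    · have hv := H.val_m hS hu hg ht h2 hto ha
      have ha0 : a = 0 := by
        have := H.val_p hS hu (hpq s hs h1 ▸ hso : p ∣ orderOf g)
        rw [ha, Int.cast_eq_zero] at this
        exact this
      rw [ha0, mul_zero, add_zero] at hv
      have := Int.le_of_dvd one_pos hv
      omega
    · -- both families vanish, only the first two characters remain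
      have hv := H.column hS hu hg ha (d := (1 + (q : ℤ) * a).natAbs + 1) (Nat.succ_ne_zero _)
        fun χ e1 e2 => Or.inl ?_
      · have h3 : 1 + (q : ℤ) * a = 0 :=
          Int.eq_zero_of_dvd_of_natAbs_lt_natAbs hv (by rw [Int.natAbs_natCast]; omega)
        have hq1 : (q : ℤ) ∣ 1 := ⟨-a, by linarith⟩
        have := Int.le_of_dvd one_pos hq1
        omega
      · rcases H.other hS hu e1 e2 with e | e | e
        · exact H.vanish ht χ (H.full_m ht h2 (Or.inl e)) hto
        · exact H.vanish hs χ (H.full_n hs h1 e) hso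
        · exact H.vanish ht χ (H.full_m ht h2 (Or.inr e)) hto
  obtain ⟨k1, k2, k3⟩ := key r r' hr hr' h h'
  obtain ⟨l1, l2, l3⟩ := key r' r hr' hr h' h
  refine ⟨fun hh => ?_, fun hh => ?_, fun hh => ?_⟩ <;> rcases hcases r' hr' h' with e | e | e
  · exact e
  · exact absurd ⟨hh, e⟩ k1
  · exact absurd ⟨hh, e⟩ k2
  · exact absurd ⟨e, hh⟩ l1
  · exact e
  · exact absurd ⟨hh, e⟩ k3
  · exact absurd ⟨e, hh⟩ l2
  · exact absurd ⟨e, hh⟩ l3
  · exact e

/-- The prime divisors of a centralizer divide the same one of `q`, `n`, `m` as those of the element. -/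
theorem Hyp.cent_pure {g : G} {r r' : ℕ} (hr : r.Prime) (hr' : r'.Prime) (h : r ∣ orderOf g) (h' : r' ∣ cn g) :
    (r ∣ q → r' ∣ q) ∧ (r ∣ n → r' ∣ n) ∧ (r ∣ m → r' ∣ m) := by
  rcases eq_or_ne r r' with rfl | hne
  · exact ⟨id, id, id⟩
  haveI : Fact r'.Prime := ⟨hr'⟩
  obtain ⟨x, hx⟩ := exists_prime_orderOf_dvd_card' (G := Subgroup.centralizer ({g} : Set G)) r' h'
  rw [← Subgroup.orderOf_coe] at hx
  have hc : Commute (x : G) g := Subgroup.mem_centralizer_singleton_iff.1 x.2
  obtain ⟨k, hk⟩ := h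
  have hk0 : k ≠ 0 := fun e => by rw [e, mul_zero] at hk; exact (orderOf_pos g).ne' hk
  have hy : orderOf (g ^ k) = r := by
    rw [orderOf_pow' _ hk0, hk, Nat.gcd_eq_right (dvd_mul_left k r),
      Nat.mul_div_cancel _ (Nat.pos_of_ne_zero hk0)]
  have ho : orderOf (g ^ k * (x : G)) = r * r' := by
    rw [((hc.pow_right k).symm).orderOf_mul_eq_mul_orderOf_of_coprime
      (by rw [hy, hx]; exact (Nat.coprime_primes hr hr').2 hne), hy, hx]
  exact H.pure hS hu hr hr' (ho ▸ dvd_mul_right r r') (ho ▸ dvd_mul_left r' r)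

theorem Hyp.cn_dvd {g : G} {r : ℕ} (hr : r.Prime) (hg : r ∣ orderOf g) :
    (r ∣ q → cn g ∣ q) ∧ (r ∣ n → cn g ∣ n) ∧ (r ∣ m → cn g ∣ m) := by
  have hd : cn g ∣ q * n * m := H.card ▸ Subgroup.card_subgroup_dvd_card _
  have hnot : ∀ {s A B : ℕ}, s.Prime → Nat.Coprime A B → s ∣ A → ¬ s ∣ B := fun hs hc h1 h2 =>
    hs.not_dvd_one (hc.gcd_eq_one ▸ Nat.dvd_gcd h1 h2)
  refine ⟨fun h => ?_, fun h => ?_, fun h => ?_⟩
  · refine Nat.Coprime.dvd_of_dvd_mul_right ?_ (by rwa [mul_assoc] at hd)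
    exact Nat.coprime_of_dvd fun s hs h1 h2 => by
      have h3 := (H.cent_pure hS hu hr hs hg h1).1 h
      rcases hs.dvd_mul.1 h2 with h2 | h2
      · exact hnot hs H.cop_qn h3 h2
      · exact hnot hs H.cop_qm h3 h2
  · refine Nat.Coprime.dvd_of_dvd_mul_left ?_ (show cn g ∣ q * m * n by rwa [mul_assoc, mul_comm m n, ← mul_assoc])
    exact Nat.coprime_of_dvd fun s hs h1 h2 => by
      have h3 := (H.cent_pure hS hu hr hs hg h1).2.1 h
      rcases hs.dvd_mul.1 h2 with h2 | h2
      · exact hnot hs H.cop_qn.symm h3 h2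
      · exact hnot hs H.cop_nm h3 h2
  · refine Nat.Coprime.dvd_of_dvd_mul_left ?_ hd
    exact Nat.coprime_of_dvd fun s hs h1 h2 => by
      have h3 := (H.cent_pure hS hu hr hs hg h1).2.2 h
      rcases hs.dvd_mul.1 h2 with h2 | h2
      · exact hnot hs H.cop_qm.symm h3 h2
      · exact hnot hs H.cop_nm.symm h3 h2

/-- The values of the character of degree `q`. -/
theorem Hyp.st_val {g : G} (hg : g ≠ 1) :
    (S : G → ℂ) g * (S : G → ℂ) g = if p ∣ orderOf g then 0 else 1 := by
  have hq := H.q9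
  have hn := H.hn
  have hm := H.hm
  by_cases hp : p ∣ orderOf g
  · rw [if_pos hp, H.val_p hS hu hp, mul_zero]
  rw [if_neg hp]
  obtain ⟨a, ha⟩ := H.int_st hS hu g
  suffices h : a * a = 1 by rw [ha, ← Int.cast_mul, h, Int.cast_one]
  obtain ⟨r, hr, hro⟩ := Nat.exists_prime_and_dvd (n := orderOf g) (fun e => hg (orderOf_eq_one_iff.1 e))
  have hnorm : 1 + a * a ≤ (cn g : ℤ) := by
    classical
    have hne : trivialIrr G ≠ S := fun e => by
      have h1 : dg (trivialIrr G) = 1 := charDeg_trivial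
      rw [e, hS] at h1
      omega
    have h1 := norm_le {trivialIrr G, S} (fun χ => if χ = S then a else 1) (g := g) fun χ hχ => by
      simp only [Finset.mem_insert, Finset.mem_singleton] at hχ
      rcases hχ with rfl | rfl
      · rw [if_neg hne, Int.cast_one]; rfl
      · rw [if_pos rfl, ha]
    rw [Finset.sum_pair hne] at h1
    simpa [hne] using h1
  have hd := hro.trans (orderOf_dvd_natCard g)
  rw [H.card] at hd
  have bound : ∀ (d : ℕ), 0 < d → cn g ∣ d → 1 + a * a ≤ (d : ℤ) := fun d hd0 hdd =>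
    le_trans hnorm (by exact_mod_cast Nat.le_of_dvd hd0 hdd)
  rcases hr.dvd_mul.1 hd with hd | hd
  · rcases hr.dvd_mul.1 hd with hd | hd
    · exact absurd ((Nat.prime_dvd_prime_iff_eq hr H.hp).1 (hr.dvd_of_dvd_pow (n := 2) (H.hq ▸ hd)) ▸ hro) hp
    · obtain ⟨j, hj⟩ := H.val_n hS hu hg hr hd hro ha
      have hb := bound n (by omega) ((H.cn_dvd hS hu hr hro).2.1 hd)
      -- `a ≡ 1` modulo `m` and `a² < n`
      have hm' : (q : ℤ) = 2 * (m : ℤ) - 1 := by omega
      have ha1 : a = 1 + (m : ℤ) * (2 * a - j) := by rw [hm'] at hj; linear_combination -hj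
      set i := 2 * a - j
      rcases lt_trichotomy i 0 with h | h | h
      · exfalso
        have h1 : (m : ℤ) * i ≤ (m : ℤ) * (-1) := Int.mul_le_mul_of_nonneg_left (by omega) (by omega)
        have h2 : a ≤ 1 - (m : ℤ) := by omega
        have h3 : (n : ℤ) = 2 * (m : ℤ) - 2 := by omega
        have h5 : (5 : ℤ) ≤ (m : ℤ) := by omega
        nlinarith [mul_le_mul (show (m : ℤ) - 1 ≤ -a by omega) (show (m : ℤ) - 1 ≤ -a by omega)
          (by omega) (by omega)]
      · rw [ha1, h]; ring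
      · exfalso
        have h1 : (m : ℤ) * 1 ≤ (m : ℤ) * i := Int.mul_le_mul_of_nonneg_left (by omega) (by omega)
        have h2 : 1 + (m : ℤ) ≤ a := by omega
        have h3 : (n : ℤ) = 2 * (m : ℤ) - 2 := by omega
        nlinarith [mul_le_mul (show (m : ℤ) + 1 ≤ a by omega) (show (m : ℤ) + 1 ≤ a by omega)
          (by omega) (by omega)]
  · obtain ⟨j, hj⟩ := H.val_m hS hu hg hr hd hro ha
    have hb := bound m (by omega) ((H.cn_dvd hS hu hr hro).2.2 hd)
    have hn' : (q : ℤ) = (n : ℤ) + 1 := by omega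
    have ha1 : a = -1 + (n : ℤ) * (j - a) := by rw [hn'] at hj; linear_combination hj
    set i := j - a
    have h2m : 2 * (m : ℤ) = (n : ℤ) + 2 := by omega
    have h5 : (8 : ℤ) ≤ (n : ℤ) := by omega
    rcases lt_trichotomy i 0 with h | h | h
    · exfalso
      have h1 : (n : ℤ) * i ≤ (n : ℤ) * (-1) := Int.mul_le_mul_of_nonneg_left (by omega) (by omega)
      nlinarith [mul_le_mul (show (n : ℤ) + 1 ≤ -a by omega) (show (n : ℤ) + 1 ≤ -a by omega)
        (by omega) (by omega)]
    · rw [ha1, h]; ring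
    · exfalso
      have h1 : (n : ℤ) * 1 ≤ (n : ℤ) * i := Int.mul_le_mul_of_nonneg_left (by omega) (by omega)
      nlinarith [mul_le_mul (show (n : ℤ) - 1 ≤ a by omega) (show (n : ℤ) - 1 ≤ a by omega)
        (by omega) (by omega)]

/-- The number of non-trivial elements of `p`-power order. -/
theorem Hyp.count_p : Nat.card {g : G // g ≠ 1 ∧ p ∣ orderOf g} = q * q - 1 := by
  classical
  haveI := Fintype.ofFinite G
  have hq := H.q9
  have hself := classInner_self_irr S.2
  rw [classInner, inv_mul_eq_iff_eq_mul₀ (Nat.cast_ne_zero.2 Nat.card_pos.ne'), mul_one] at hself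
  have hreal : ∀ g : G, conj ((S : G → ℂ) g) = (S : G → ℂ) g := fun g => by
    obtain ⟨a, ha⟩ := H.int_st hS hu g
    rw [ha, map_intCast]
  rw [← Finset.add_sum_erase _ _ (Finset.mem_univ (1 : G)),
    Finset.sum_congr rfl (s₁ := Finset.univ.erase (1 : G)) (g := fun g => if p ∣ orderOf g then (0 : ℂ) else 1)
      fun g hg => by rw [hreal, H.st_val hS hu (Finset.ne_of_mem_erase hg)],
    hreal, Invol.M12Ord.value_one, hS] at hself
  rw [Finset.sum_ite, Finset.sum_const_zero, zero_add, Finset.sum_const, nsmul_eq_mul, mul_one] at hself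
  have h : q * q + ((Finset.univ.erase (1 : G)).filter fun g => ¬ p ∣ orderOf g).card = Nat.card G := by
    exact_mod_cast hself
  have hsplit := Finset.card_filter_add_card_filter_not (s := Finset.univ.erase (1 : G)) (fun g => p ∣ orderOf g)
  rw [Finset.card_erase_of_mem (Finset.mem_univ _), Finset.card_univ, ← Nat.card_eq_fintype_card] at hsplit
  rw [Nat.card_eq_fintype_card, Fintype.card_subtype,
    show (Finset.univ.filter fun g : G => g ≠ 1 ∧ p ∣ orderOf g) =
      (Finset.univ.erase (1 : G)).filter fun g => p ∣ orderOf g by ext g; simp [Finset.mem_erase, and_comm]]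
  omega

end Cfsg.Agent.Block.PSLSquare
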