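import Cfsg.Agent.Lib.Block.SL2Char.PSLDegrees

/-!
The degrees of the irreducible characters of `PSL(2, q)` for `q` congruent to one modulo four.
-/

set_option autoImplicit false
set_option linter.unusedSectionVars false

namespace Cfsg.Agent.Block.PSLSquare

open Matrix Finset Cfsg Cfsg.Agent.Block.SL2Char

universe u

variable {F : Type u} [Field F] [Fintype F]

local notation "SS" => Matrix.SpecialLinearGroup (Fin 2) F
local notation "PS" => Matrix.ProjectiveSpecialLinearGroup (Fin 2) F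
local notation "GG" => GL (Fin 2) F

/-- The degrees that may occur. -/
def Deg (q d : ℕ) : Prop := d = 1 ∨ d = q ∨ d = q + 1 ∨ d + 1 = q ∨ 2 * d = q + 1

theorem char_two_sign {A : Type*} [CommGroup A] [Fintype A] [IsCyclic A] {k : ℕ}
    (hA : Fintype.card A = 2 * (2 * k + 1)) {φ : A →* ℂˣ} (h1 : φ * φ = 1) (h2 : φ ≠ 1) {w : A}
    (hw : w * w = 1) (hw1 : w ≠ 1) : (φ w : ℂ) = -1 := by
  obtain ⟨g, hg⟩ := IsCyclic.exists_generator (α := A)
  have hpm : (φ g : ℂ) = -1 := by
    have h : (φ g : ℂ) * (φ g : ℂ) = 1 := by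
      have := congrArg Units.val (DFunLike.congr_fun h1 g)
      simpa using this
    refine (mul_self_eq_one_iff.1 h).resolve_left fun e => h2 (MonoidHom.ext fun x => ?_)
    obtain ⟨i, rfl⟩ := Subgroup.mem_zpowers_iff.1 (hg x)
    rw [map_zpow, Units.val_eq_one.1 e, _root_.one_zpow, MonoidHom.one_apply]
  obtain ⟨i, hi⟩ : ∃ i : ℕ, g ^ i = w := mem_powers_iff_mem_zpowers.2 (hg w)
  have ho : orderOf g = 2 * (2 * k + 1) := by
    rw [orderOf_eq_card_of_forall_mem_zpowers hg, Nat.card_eq_fintype_card, hA]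
  have hd : 2 * (2 * k + 1) ∣ 2 * i := by
    rw [← ho]
    refine orderOf_dvd_of_pow_eq_one ?_
    rw [two_mul, pow_add, hi, hw]
  obtain ⟨j, hj⟩ := Nat.dvd_of_mul_dvd_mul_left (by norm_num : 0 < 2) hd
  have hjodd : Odd j := by
    rcases Nat.even_or_odd j with ⟨l, hl⟩ | h
    · refine absurd ?_ hw1
      rw [← hi]
      refine orderOf_dvd_iff_pow_eq_one.1 ⟨l, ?_⟩
      rw [ho, hj, hl]; ring
    · exact h
  rw [← hi, map_pow, Units.val_pow_eq_pow_val, hpm, hj]
  exact ((odd_two_mul_add_one k).mul hjodd).neg_one_pow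

/-- No constituent of the reducible discrete series is trivial on the centre. -/
theorem halfD_central (h4 : Fintype.card F % 4 = 1) [DecidableEq F] {K : Type} [Field K] [Algebra F K]
    [Fintype K] [DecidableEq K] (hK : Module.finrank F K = 2) {χ : SS → ℂ} (h : HalfD K hK χ) :
    ∃ s ∈ Subgroup.center SS, χ s ≠ χ 1 := by
  classical
  obtain ⟨φ, b, x, h1, h2, -, -, -, he, hc⟩ := h
  have hz : (-1 : Fˣ) ∈ Z2 F := mem_Z2.2 (by simp)
  set s : SS := mkS (sc (-1 : Fˣ)) (by rw [dt_sc]; simp) with hs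
  have hts : Matrix.SpecialLinearGroup.toGL s = (sc (-1 : Fˣ) : GG) := toGL_mkS _ _
  have hcen : ∀ y : GG, y * sc (-1 : Fˣ) * y⁻¹ = sc (-1 : Fˣ) := fun y => by
    rw [mul_inv_eq_iff_eq_mul]
    ext i j
    fin_cases i <;> fin_cases j <;> simp [sc, Matrix.mul_apply, Fin.sum_univ_two]
  have hfix : ∀ y : GG, cjS y s = s := fun y =>
    Matrix.SpecialLinearGroup.toGL_injective (by rw [toGL_cjS, hts, hcen])
  refine ⟨s, Subgroup.mem_center_iff.2 fun y => ?_, fun e => ?_⟩
  · have h := hfix (Matrix.SpecialLinearGroup.toGL y)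
    rw [cjS_toGL, mul_inv_eq_iff_eq_mul] at h
    exact h
  have hb1 : b 1 = χ 1 := by
    have := hc 1
    rwa [map_one] at this
  have hbs : b s = χ s := by
    have := hc s
    rwa [hfix] at this
  have e1 := congrFun he s
  have e2 := congrFun he 1
  rw [Pi.add_apply, hbs, e] at e1
  rw [Pi.add_apply, hb1] at e2
  rw [vDS, resS_apply, hts, vD_sc, cv_extU_emb K φ (-1 : Fˣ) hz] at e1
  rw [vDS_one] at e2
  obtain ⟨k, hk⟩ : ∃ k, Fintype.card F = 4 * k + 1 := ⟨Fintype.card F / 4, by omega⟩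
  have hne : embU K (-1 : Fˣ) hz ≠ 1 := fun e0 => by
    have h0 := emb_injective K ((congrArg Subtype.val e0).trans (map_one (emb (F := F) K)).symm)
    have h1' : (-1 : F) = 1 := by simpa using congrArg Units.val h0
    have h2' : ((2 : ℕ) : F) = 0 := by push_cast; linear_combination -h1'
    obtain ⟨r, hr⟩ := CharP.exists F
    haveI := hr
    haveI : Fact r.Prime := ⟨CharP.char_is_prime F r⟩
    have hr2 : r = 2 := ((Nat.dvd_prime Nat.prime_two).1 ((CharP.cast_eq_zero_iff F r 2).1 h2')).resolve_left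
      (Fact.out : r.Prime).ne_one
    obtain ⟨m, -, hm⟩ := FiniteField.card F r
    rw [hr2] at hm
    rw [hm] at hk
    have : 2 ∣ 2 ^ (m : ℕ) := dvd_pow_self 2 m.pos.ne'
    omega
  have hv : cv φ (embU K (-1 : Fˣ) hz) = -1 :=
    char_two_sign (k := k) (by rw [card_U1 K hK, hk]; ring) h1 h2 (embU_mul_self K _ hz) hne
  rw [hv] at e1
  have hq : (Fintype.card F : ℂ) - 1 = 0 := by linear_combination (e2 - e1) / 2
  rw [sub_eq_zero] at hq
  have := Fintype.one_lt_card (α := F)
  have hq' : Fintype.card F = 1 := by exact_mod_cast hq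
  omega

/-- The degrees of `PSL(2, q)`, with the degree `q` occurring once. -/
theorem psl_degrees (h4 : Fintype.card F % 4 = 1) :
    (∀ ψ : IrrCharacter PS, Deg (Fintype.card F) (charDegree (ψ : PS → ℂ))) ∧
    ∀ ψ ψ' : IrrCharacter PS, charDegree (ψ : PS → ℂ) = Fintype.card F →
      charDegree (ψ' : PS → ℂ) = Fintype.card F → ψ = ψ' := by
  classical
  obtain ⟨K, _, _, _, _, hK⟩ := exists_model F
  have hq5 : 5 ≤ Fintype.card F := by have := Fintype.one_lt_card (α := F); omega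
  have key : ∀ ψ : IrrCharacter PS, Deg (Fintype.card F) (charDegree (ψ : PS → ℂ)) ∧
      (charDegree (ψ : PS → ℂ) = Fintype.card F →
        (ψ : PS → ℂ) ∘ (QuotientGroup.mk' (Subgroup.center SS)) = vSS) := by
    intro ψ
    have hχ : IsIrrCharacter SS ((ψ : PS → ℂ) ∘ QuotientGroup.mk' (Subgroup.center SS)) :=
      Cfsg.Agent.Char.IsIrr.comp_surjective (QuotientGroup.mk' (Subgroup.center SS))
        (QuotientGroup.mk'_surjective _) ψ.2
    obtain ⟨n, hn, h⟩ := irr_cases_S K hK hχ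
    have hd : charDegree (ψ : PS → ℂ) = n := SL2Char.charDegree_eq (by
      rw [← hn, Function.comp_apply, map_one])
    rw [hd]
    rcases h with ⟨h, -⟩ | ⟨h, h'⟩ | ⟨h, -⟩ | ⟨h, -⟩ | ⟨h, -, -⟩ | ⟨h, -, h'⟩
    · exact ⟨Or.inl h, fun e => absurd (h.symm.trans e) (by omega)⟩
    · exact ⟨Or.inr (Or.inl h), fun _ => h'⟩
    · exact ⟨Or.inr (Or.inr (Or.inl h)), fun e => absurd (h.symm.trans e) (by omega)⟩
    · exact ⟨Or.inr (Or.inr (Or.inr (Or.inl h))), fun e => absurd h (by omega)⟩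
    · exact ⟨Or.inr (Or.inr (Or.inr (Or.inr h))), fun e => absurd h (by omega)⟩
    · exfalso
      obtain ⟨s, hs, hne⟩ := halfD_central h4 hK h'
      refine hne ?_
      rw [Function.comp_apply, Function.comp_apply, map_one,
        show QuotientGroup.mk' (Subgroup.center SS) s = 1 from (QuotientGroup.eq_one_iff s).2 hs]
  refine ⟨fun ψ => (key ψ).1, fun ψ ψ' h h' => Subtype.ext (funext fun g => ?_)⟩
  obtain ⟨s, rfl⟩ := QuotientGroup.mk'_surjective (Subgroup.center SS) g
  exact congrFun (((key ψ).2 h).trans ((key ψ').2 h').symm) s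

end Cfsg.Agent.Block.PSLSquare
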