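import Cfsg.Agent.Lib.Block.PSLSquare.Main
import Cfsg.Agent.Lib.Block.OrderPrimeBase
import Cfsg.Agent.Lib.Fus.SmallSimple
import Cfsg.Agent.Lib.Spor.RankFourQuotPerm
import Cfsg.Agent.Lib.Classical.SLGroup
import Cfsg.Agent.Lib.Classical.SLNormal
import Cfsg.Agent.Lib.Char.Integral

/-!
The degree multiset of `PSL(2, p²)` determines it.
-/

set_option autoImplicit false
set_option linter.style.haveILetI false
set_option linter.unusedSectionVars false

namespace Cfsg.Agent.Block.PSLSquare

open Cfsg Cfsg.Agent.Block Cfsg.Agent.Char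
open Cfsg.Agent.Invol.M12Ord (dg)

universe u v w

/-- A group with one character of degree one is perfect. -/
theorem perfect_of_lin {G : Type u} [Group G] [Finite G]
    (h : ∀ χ : IrrCharacter G, dg χ = 1 → χ = trivialIrr G) : commutator G = ⊤ := by
  refine (Subgroup.eq_top_iff' _).2 fun g => ?_
  rw [← Abelianization.ker_of G, MonoidHom.mem_ker]
  refine eq_one_of_forall_linear (fun a b => mul_comm a b) fun l => ?_
  have hl := h ⟨_, isIrr_linear (l.comp Abelianization.of)⟩ (by
    show charDegree (fun x : G => ((l.comp Abelianization.of) x : ℂ)) = 1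
    simp [charDegree])
  have hg := congrFun (congrArg (fun χ : IrrCharacter G => (χ : G → ℂ)) hl) g
  exact Units.val_eq_one.1 hg

/-- Equal numbers of characters of each degree give a bijection preserving degrees. -/
theorem exists_equiv {G : Type u} [Group G] [Finite G] {L : Type v} [Group L] [Finite L]
    (h : ∀ d : ℕ, Nat.card {χ : IrrCharacter G // (χ : G → ℂ) 1 = (d : ℂ)} =
      Nat.card {χ : IrrCharacter L // (χ : L → ℂ) 1 = (d : ℂ)}) :
    ∃ e : IrrCharacter G ≃ IrrCharacter L, ∀ χ, dg (e χ) = dg χ := by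
  classical
  have hc : ∀ d : ℕ, Nat.card {χ : IrrCharacter G // dg χ = d} = Nat.card {χ : IrrCharacter L // dg χ = d} := by
    intro d
    rw [Nat.card_congr (Equiv.subtypeEquivRight fun χ : IrrCharacter G =>
        (⟨fun e => by rw [Invol.M12Ord.value_one, e],
          fun e => Nat.cast_injective (R := ℂ) ((Invol.M12Ord.value_one χ).symm.trans e)⟩ :
          dg χ = d ↔ (χ : G → ℂ) 1 = (d : ℂ))),
      Nat.card_congr (Equiv.subtypeEquivRight fun χ : IrrCharacter L =>
        (⟨fun e => by rw [Invol.M12Ord.value_one, e],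
          fun e => Nat.cast_injective (R := ℂ) ((Invol.M12Ord.value_one χ).symm.trans e)⟩ :
          dg χ = d ↔ (χ : L → ℂ) 1 = (d : ℂ)))]
    exact h d
  let f : ∀ d, {χ : IrrCharacter G // dg χ = d} ≃ {χ : IrrCharacter L // dg χ = d} := fun d =>
    Classical.choice (Finite.card_eq.1 (hc d))
  exact ⟨Equiv.ofFiberEquiv f, fun χ => Equiv.ofFiberEquiv_map f χ⟩

theorem card_psl {F : Type w} [Field F] [Fintype F] {c : ℕ} (hF : Fintype.card F = c + 1) :
    Nat.gcd 2 c * Nat.card (Matrix.ProjectiveSpecialLinearGroup (Fin 2) F) = (c + 1) * (c * (c + 2)) := by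
  have h1 := Classical.natCard_PSL_mul (F := F) 2 (by norm_num)
  rw [Fus.PSLTwo.natCard_SL_two, Classical.natCard_units_field, hF, Nat.add_sub_cancel] at h1
  exact h1

theorem psl_congr {K : Type w} [Field K] [Fintype K] {F : Type v} [Field F] [Fintype F]
    (h : Fintype.card K = Fintype.card F) :
    Nonempty (Matrix.ProjectiveSpecialLinearGroup (Fin 2) K ≃*
      Matrix.ProjectiveSpecialLinearGroup (Fin 2) F) := by
  let e : K ≃+* F := FiniteField.ringEquivOfCardEq h
  exact Zas.nonempty_quotient_center_congr (MonoidHom.toMulEquiv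
    (Matrix.SpecialLinearGroup.map (n := Fin 2) (e : K →+* F))
    (Matrix.SpecialLinearGroup.map (n := Fin 2) (e.symm : F →+* K))
    (MonoidHom.ext fun g => by ext i j; exact e.symm_apply_apply _)
    (MonoidHom.ext fun g => by ext i j; exact e.apply_symm_apply _))

/-- The degree multiset of `PSL(2, p²)` determines it. -/
theorem iso_of_multiset {F : Type v} [Field F] [Fintype F] (p : ℕ) (hp : p.Prime)
    (hF : Fintype.card F = p ^ 2) {G : Type u} [Group G] [Finite G]
    (h : ∀ d : ℕ, Nat.card {χ : IrrCharacter G // (χ : G → ℂ) 1 = (d : ℂ)} =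
      Nat.card {χ : IrrCharacter (Matrix.ProjectiveSpecialLinearGroup (Fin 2) F) //
        (χ : Matrix.ProjectiveSpecialLinearGroup (Fin 2) F → ℂ) 1 = (d : ℂ)}) :
    Nonempty (G ≃* Matrix.ProjectiveSpecialLinearGroup (Fin 2) F) := by
  classical
  set L := Matrix.ProjectiveSpecialLinearGroup (Fin 2) F with hL
  have h4 : 4 ≤ Fintype.card F := by
    rw [hF]
    exact Nat.pow_le_pow_left hp.two_le 2
  haveI : IsSimpleGroup L := Classical.PSL_isSimple le_rfl fun _ => by
    exact h4
  have hna : ¬ IsMulCommutative L := fun hc => by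
    have h1 := card_prime_of_simple_of_comm (G := L) fun a b => hc.1.1 a b
    obtain ⟨c, hc'⟩ : ∃ c, Fintype.card F = c + 1 := ⟨Fintype.card F - 1, by omega⟩
    have hcard := card_psl hc'
    have h3 : 3 ≤ c := by omega
    rcases (Nat.dvd_prime h1).1 (show c + 1 ∣ Nat.card L from by
      refine (Nat.Coprime.dvd_of_dvd_mul_left ?_ ⟨c * (c + 2), hcard⟩)
      exact Nat.Coprime.coprime_dvd_right (Nat.gcd_dvd_right 2 c) (by simp)) with e | e
    · omega
    · rw [← e] at hcard
      have h5 : Nat.gcd 2 c = c * (c + 2) :=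
        Nat.eq_of_mul_eq_mul_left (show 0 < c + 1 by omega) (by rw [← hcard]; ring)
      have h6 := Nat.le_of_dvd (by norm_num : 0 < 2) (Nat.gcd_dvd_left 2 c)
      nlinarith
  obtain ⟨e, he⟩ := exists_equiv h
  have htriv : ∀ χ : IrrCharacter G, dg χ = 1 → χ = trivialIrr G := by
    intro χ hχ
    refine e.injective ?_
    rw [OrdP.eq_trivial_of_deg hna (χ := e χ) ((he χ).trans hχ),
      OrdP.eq_trivial_of_deg hna (χ := e (trivialIrr G)) ((he _).trans charDeg_trivial)]
  have hcard : Nat.card G = Nat.card L := by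
    apply Nat.cast_injective (R := ℂ)
    rw [← sum_degree_sq, ← sum_degree_sq, ← Equiv.sum_comp e]
    exact Finset.sum_congr rfl fun χ _ => by rw [Invol.M12Ord.value_one, Invol.M12Ord.value_one, he]
  rcases eq_or_ne p 2 with rfl | hp2
  · have h60 : Nat.card L = 60 := by
      have h2 := card_psl (F := F) (c := 3) (by rw [hF]; norm_num)
      rw [show Nat.gcd 2 3 = 1 from rfl, one_mul] at h2
      exact h2
    haveI : Nontrivial G := Finite.one_lt_card_iff_nontrivial.1 (by omega)
    have hperf := perfect_of_lin htriv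
    haveI : IsSimpleGroup G := ⟨fun N hN => by
      by_contra hne
      push Not at hne
      haveI := hN
      have hidx : Nat.card (G ⧸ N) < 60 := by
        have h1 := Subgroup.card_eq_card_quotient_mul_card_subgroup N
        rw [hcard, h60] at h1
        have h2 : 1 < Nat.card N := (Subgroup.one_lt_card_iff_ne_bot N).2 hne.1
        rw [h1]
        exact lt_mul_of_one_lt_right Nat.card_pos h2
      haveI := Spor.RankFourQuot.small_solvable hidx
      haveI : Nontrivial (G ⧸ N) := QuotientGroup.nontrivial_iff.2 hne.2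
      refine (Group.IsSolvable.commutator_lt_top_of_nontrivial (G := G ⧸ N)).ne ?_
      have hmap : (commutator G).map (QuotientGroup.mk' N) = commutator (G ⧸ N) := by
        rw [commutator_def, commutator_def, Subgroup.map_commutator,
          Subgroup.map_top_of_surjective _ (QuotientGroup.mk'_surjective N)]
      rw [← hmap, hperf, Subgroup.map_top_of_surjective _ (QuotientGroup.mk'_surjective N)]⟩
    obtain ⟨a⟩ := Fus.alternating_five_of_card (hcard.trans h60)
    obtain ⟨b⟩ := Fus.alternating_five_of_card (G := L) h60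
    exact ⟨a.trans b.symm⟩
  have hp3 : 3 ≤ p := by have := hp.two_le; omega
  obtain ⟨k, hk⟩ := hp.odd_of_ne_two hp2
  have hq8 : p ^ 2 % 8 = 1 := by
    obtain ⟨l, hl⟩ := Nat.even_mul_succ_self k
    rw [hk, show (2 * k + 1) ^ 2 = 4 * (k * (k + 1)) + 1 by ring, hl]
    omega
  obtain ⟨c, hc⟩ : ∃ c, p ^ 2 = 2 * c + 1 := ⟨p ^ 2 / 2, by omega⟩
  have hL2 := card_psl (F := F) (c := 2 * c) (by rw [hF, hc])
  rw [Nat.gcd_eq_left (dvd_mul_right 2 c)] at hL2
  have hGc : Nat.card G = p ^ 2 * (2 * c) * (c + 1) := by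
    refine Nat.eq_of_mul_eq_mul_left two_pos ?_
    rw [hcard, hL2, hc]; ring
  obtain ⟨hdeg, huniq⟩ := psl_degrees (F := F) (by rw [hF]; omega)
  obtain ⟨ψ, hψ, hψ1⟩ := (SL2Char.exists_deg_PS (F := F)).1
  have hψd : dg (⟨ψ, hψ⟩ : IrrCharacter L) = Fintype.card F := SL2Char.charDegree_eq hψ1
  have H : Hyp G p (p ^ 2) (2 * c) (c + 1) :=
    { hp := hp, p3 := hp3, hq := rfl, hn := hc.symm, hm := by omega, card := hGc
      deg := fun χ => by
        rw [← he χ, ← hF]
        exact hdeg (e χ)
      lin := htriv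
      st := ⟨e.symm ⟨ψ, hψ⟩, by rw [← he, Equiv.apply_symm_apply, hψd, hF], fun χ hχ => by
        apply e.injective
        rw [Equiv.apply_symm_apply]
        exact huniq (e χ) ⟨ψ, hψ⟩ ((he χ).trans (hχ.trans hF.symm)) hψd⟩ }
  haveI : Fact p.Prime := ⟨hp⟩
  obtain ⟨K, _, _, hK, ⟨iso⟩⟩ := H.iso
  obtain ⟨e'⟩ := psl_congr (K := K) (F := F) (hK.trans hF.symm)
  exact ⟨iso.trans e'⟩

end Cfsg.Agent.Block.PSLSquare
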