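import Cfsg.Agent.Lib.Block.PSLSquare.Classes
import Cfsg.Agent.Lib.Block.Zas.Half
import Cfsg.Agent.Lib.Block.Zas.Involution
import Cfsg.Agent.Lib.Block.Zas.FieldCongr
import Cfsg.Agent.Lib.Fus.PSLTwo

/-!
A group with the degrees of `PSL(2, p²)` is a Zassenhaus group on its Sylow `p`-subgroups, hence is `PSL(2, p²)`.
-/

set_option autoImplicit false
set_option linter.style.haveILetI false
set_option linter.unusedSectionVars false

namespace Cfsg.Agent.Block.PSLSquare

open Cfsg Cfsg.Agent.Block Cfsg.Agent.Char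
open Cfsg.Agent.Invol.M12Ord (cn dg)
open scoped Pointwise

universe u v w

variable {G : Type u} [Group G] [Finite G] {p q n m : ℕ} (H : Hyp G p q n m)
include H

theorem Hyp.not_dvd_index : ¬ p ∣ n * m := fun h => by
  have hp := H.hp
  have hpq : p ∣ q := H.hq ▸ dvd_pow_self p two_ne_zero
  rcases hp.dvd_mul.1 h with h | h
  · exact hp.not_dvd_one (H.cop_qn.gcd_eq_one ▸ Nat.dvd_gcd hpq h)
  · exact hp.not_dvd_one (H.cop_qm.gcd_eq_one ▸ Nat.dvd_gcd hpq h)

variable [Fact p.Prime]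

theorem Hyp.card_sylow (Q : Sylow p G) : Nat.card (Q : Subgroup G) = q := by
  rw [Q.card_eq_multiplicity, H.card, mul_assoc, H.hq, Nat.factorization_mul
    (pow_ne_zero _ H.hp.ne_zero) (fun e => H.not_dvd_index (by rw [e]; exact dvd_zero p)), Finsupp.add_apply,
    H.hp.factorization_pow, Finsupp.single_eq_same, Nat.factorization_eq_zero_of_not_dvd H.not_dvd_index,
    add_zero]

variable {S : IrrCharacter G} (hS : dg S = q) (hu : ∀ χ : IrrCharacter G, dg χ = q → χ = S)
include hS hu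

theorem Hyp.mem_dvd {Q : Sylow p G} {g : G} (hg : g ∈ (Q : Subgroup G)) (hg1 : g ≠ 1) : p ∣ orderOf g := by
  obtain ⟨k, hk⟩ := Q.isPGroup' ⟨g, hg⟩
  have hd : orderOf g ∣ p ^ k := orderOf_dvd_of_pow_eq_one (congrArg Subtype.val hk)
  obtain ⟨i, -, hi⟩ := (Nat.dvd_prime_pow H.hp).1 hd
  rcases Nat.eq_zero_or_pos i with rfl | h
  · exact absurd (orderOf_eq_one_iff.1 (by rw [hi, pow_zero])) hg1
  · exact hi ▸ dvd_pow_self p h.ne'

/-- The centralizer of a non-trivial element of a Sylow subgroup is that subgroup. -/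
theorem Hyp.cent_eq {Q : Sylow p G} {g : G} (hg : g ∈ (Q : Subgroup G)) (hg1 : g ≠ 1) :
    Subgroup.centralizer ({g} : Set G) = (Q : Subgroup G) := by
  haveI : IsMulCommutative (Q : Subgroup G) :=
    IsPGroup.isMulCommutative_of_card_eq_prime_sq (p := p) (by rw [H.card_sylow Q, H.hq])
  have hle : (Q : Subgroup G) ≤ Subgroup.centralizer ({g} : Set G) := fun x hx => by
    refine Subgroup.mem_centralizer_singleton_iff.2 ?_
    exact congrArg Subtype.val
      (IsMulCommutative.is_comm.comm (⟨x, hx⟩ : (Q : Subgroup G)) ⟨g, hg⟩)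
  refine (Subgroup.eq_of_le_of_card_ge hle ?_).symm
  rw [H.card_sylow Q]
  exact Nat.le_of_dvd (by have := H.q9; omega)
    ((H.cn_dvd hS hu H.hp (H.mem_dvd hS hu hg hg1)).1 (H.hq ▸ dvd_pow_self p two_ne_zero))

theorem Hyp.sylow_eq {Q R : Sylow p G} {g : G} (h1 : g ∈ (Q : Subgroup G)) (h2 : g ∈ (R : Subgroup G))
    (hg1 : g ≠ 1) : Q = R :=
  Sylow.ext ((H.cent_eq hS hu h1 hg1).symm.trans (H.cent_eq hS hu h2 hg1))

theorem Hyp.exists_sylow {g : G} (ho : p ∣ orderOf g) : ∃ Q : Sylow p G, g ∈ (Q : Subgroup G) := by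
  have hd : cn g ∣ p ^ 2 := H.hq ▸ (H.cn_dvd hS hu H.hp ho).1 (H.hq ▸ dvd_pow_self p two_ne_zero)
  obtain ⟨k, -, hk⟩ := (Nat.dvd_prime_pow H.hp).1 hd
  obtain ⟨Q, hQ⟩ := (IsPGroup.of_card hk : IsPGroup p (Subgroup.centralizer ({g} : Set G))).exists_le_sylow
  exact ⟨Q, hQ (Subgroup.mem_centralizer_singleton_iff.2 rfl)⟩

/-- There are `q + 1` Sylow `p`-subgroups. -/
theorem Hyp.card_points : Nat.card (Sylow p G) = q + 1 := by
  classical
  have hq := H.q9
  let f : (Σ Q : Sylow p G, {g : (Q : Subgroup G) // g ≠ 1}) → {g : G // g ≠ 1 ∧ p ∣ orderOf g} := fun x =>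
    ⟨((x.2 : (x.1 : Subgroup G)) : G), fun e => x.2.2 (Subtype.ext e),
      H.mem_dvd hS hu (x.2 : (x.1 : Subgroup G)).2 fun e => x.2.2 (Subtype.ext e)⟩
  have hf : Function.Bijective f := by
    constructor
    · rintro ⟨Q, ⟨⟨g, hg⟩, hg1⟩⟩ ⟨R, ⟨⟨g', hg'⟩, hg'1⟩⟩ e
      obtain rfl : g = g' := congrArg Subtype.val e
      obtain rfl := H.sylow_eq hS hu hg hg' fun e => hg1 (Subtype.ext e)
      rfl
    · rintro ⟨g, hg1, ho⟩
      obtain ⟨Q, hQ⟩ := H.exists_sylow hS hu ho
      exact ⟨⟨Q, ⟨⟨g, hQ⟩, fun e => hg1 (congrArg Subtype.val e)⟩⟩, rfl⟩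
  have hcard := Nat.card_congr (Equiv.ofBijective f hf)
  letI := Fintype.ofFinite (Sylow p G)
  rw [H.count_p hS hu, Nat.card_sigma, Finset.sum_congr rfl (g := fun _ => q - 1) fun Q _ => by
    letI := Fintype.ofFinite (Q : Subgroup G)
    rw [Nat.card_eq_fintype_card, Fintype.card_subtype_compl, Fintype.card_subtype_eq,
      ← Nat.card_eq_fintype_card, H.card_sylow Q],
    Finset.sum_const, Finset.card_univ, smul_eq_mul, ← Nat.card_eq_fintype_card] at hcard
  have hkey : q * q - 1 = (q + 1) * (q - 1) := by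
    rw [Nat.mul_sub_one, add_mul, one_mul]
    omega
  rw [hkey] at hcard
  exact Nat.eq_of_mul_eq_mul_right (by omega) hcard

omit hS hu in
theorem smul_self_of_mem (P : Sylow p G) {u : G} (h : u ∈ (P : Subgroup G)) : u • P = P :=
  Sylow.smul_eq_iff_mem_normalizer.2 (Subgroup.le_normalizer h)

theorem Hyp.free {P Q : Sylow p G} {u : G} (hu' : u ∈ (P : Subgroup G)) (h : u • Q = Q) (hne : Q ≠ P) :
    u = 1 := by
  by_contra hu1
  have h1 : u ∈ (P : Subgroup G) ⊓ Subgroup.normalizer ((Q : Subgroup G) : Set G) :=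
    ⟨hu', Sylow.smul_eq_iff_mem_normalizer.1 h⟩
  have h2 : u ∈ (P : Subgroup G) ⊓ (Q : Subgroup G) := (P.isPGroup'.inf_normalizer_sylow Q).le h1
  exact hne (H.sylow_eq hS hu h2.2 h2.1 hu1)

/-- A Sylow subgroup is regular on the others. -/
theorem Hyp.regular (P y z : Sylow p G) (hy : y ≠ P) (hz : z ≠ P) :
    ∃! u : (P : Subgroup G), (u : G) • y = z := by
  classical
  have hne : ∀ u : (P : Subgroup G), (u : G) • y ≠ P := fun u e => hy
    (MulAction.injective (u : G) (e.trans (smul_self_of_mem H P u.2).symm))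
  let f : ↥(P : Subgroup G) → {x : Sylow p G // x ≠ P} := fun u => ⟨(u : G) • y, hne u⟩
  have hinj : Function.Injective f := fun a b e => by
    have e' : (a : G) • y = (b : G) • y := congrArg Subtype.val e
    have := H.free hS hu (mul_mem (inv_mem b.2) a.2) (by rw [mul_smul, e', inv_smul_smul]) hy
    exact Subtype.ext (inv_mul_eq_one.1 this).symm
  letI := Fintype.ofFinite (Sylow p G)
  letI := Fintype.ofFinite (P : Subgroup G)
  have hbij := (Fintype.bijective_iff_injective_and_card f).2 ⟨hinj, by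
    rw [Fintype.card_subtype_compl, Fintype.card_subtype_eq, ← Nat.card_eq_fintype_card,
      ← Nat.card_eq_fintype_card, H.card_sylow P, H.card_points hS hu, Nat.add_sub_cancel]⟩
  obtain ⟨u, hu'⟩ := hbij.2 ⟨z, hz⟩
  exact ⟨u, congrArg Subtype.val hu', fun v hv => hinj (Subtype.ext (hv.trans (congrArg Subtype.val hu').symm))⟩

theorem Hyp.free_three (g : G) (x y z : Sylow p G) (hxy : x ≠ y) (hyz : y ≠ z) (hxz : x ≠ z)
    (h1 : g • x = x) (h2 : g • y = y) (h3 : g • z = z) : g = 1 := by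
  obtain ⟨u, hu', huniq⟩ := H.regular hS hu x y z hxy.symm hxz.symm
  have hmem : g * u * g⁻¹ ∈ (x : Subgroup G) :=
    (Subgroup.mem_normalizer_iff.1 (Sylow.smul_eq_iff_mem_normalizer.1 h1) (u : G)).1 u.2
  have hconj := huniq ⟨_, hmem⟩ (by
    show (g * (u : G) * g⁻¹) • y = z
    rw [mul_smul, mul_smul, inv_smul_eq_iff.2 h2.symm, hu', h3])
  have hu1 : (u : G) ≠ 1 := fun e => hyz (by rw [← hu', e, one_smul])
  have hgc : g ∈ Subgroup.centralizer ({(u : G)} : Set G) :=
    Subgroup.mem_centralizer_singleton_iff.2 (mul_inv_eq_iff_eq_mul.1 (congrArg Subtype.val hconj))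
  rw [H.cent_eq hS hu u.2 hu1] at hgc
  exact H.free hS hu hgc h2 hxy.symm

omit hS hu in
/-- The group is a two-dimensional projective special linear group over a field with `q` elements. -/
theorem Hyp.iso : ∃ (K : Type) (_ : Field K) (_ : Fintype K), Fintype.card K = q ∧
    Nonempty (G ≃* Matrix.ProjectiveSpecialLinearGroup (Fin 2) K) := by
  obtain ⟨S, hS, hu⟩ := H.st
  have hq := H.q9
  have hpts := H.card_points hS hu
  obtain ⟨P, Q, hPQ⟩ : ∃ P Q : Sylow p G, P ≠ Q := by
    haveI : Nontrivial (Sylow p G) := Finite.one_lt_card_iff_nontrivial.1 (by omega)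
    exact exists_pair_ne _
  let D : Zas.Frame G (Sylow p G) :=
    { a := P
      b := Q
      F := (P : Subgroup G)
      hab := hPQ
      free3 := H.free_three hS hu
      two := fun {x y z w} hxy hzw => by
        obtain ⟨g, hg⟩ := MulAction.exists_smul_eq G x z
        obtain ⟨u, hu', -⟩ := H.regular hS hu z (g • y) w
          (fun e => hxy (MulAction.injective g (hg.trans e.symm))) hzw.symm
        refine ⟨u * g, ?_, ?_⟩
        · rw [mul_smul, hg, smul_self_of_mem H z u.2]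
        · rw [mul_smul, hu']
      F_fix := fun u hu' => smul_self_of_mem H P hu'
      F_conj := fun g hg u hu' =>
        (Subgroup.mem_normalizer_iff.1 (Sylow.smul_eq_iff_mem_normalizer.1 hg) u).1 hu'
      F_reg := fun y z hy hz => H.regular hS hu P y z hy hz }
  have hF : Nat.card D.F = q := H.card_sylow P
  have hn2 : 2 ≤ Nat.card D.F := by omega
  have hG := D.card_group
  rw [hF, H.card, mul_assoc, ← mul_assoc (q + 1) q, mul_comm (q + 1) q, mul_assoc] at hG
  have hHc : 2 * Nat.card D.H = n := by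
    have h1 := Nat.eq_of_mul_eq_mul_left (by omega) hG
    have h2 : (q + 1) * (2 * Nat.card D.H) = (q + 1) * n := by
      rw [← mul_assoc, mul_comm (q + 1) 2, mul_assoc, ← h1, ← H.hm]; ring
    exact Nat.eq_of_mul_eq_mul_left (by omega) h2
  have hn := H.hn
  have h8 := H.q8
  have hhalf : 2 * Nat.card D.H = Nat.card D.F - 1 := by omega
  have heven : Even (Nat.card D.H) := Nat.even_iff.2 (by omega)
  have hH : D.H ≠ ⊥ := fun e => by rw [e, Subgroup.card_bot] at hHc; omega
  obtain ⟨K, _, _, -, hK, hiso⟩ := D.iso_psl_of_half hn2 hH hhalf fun s hsa hsb h hh =>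
    D.inversion_of_swaps (fun g ga gb => D.swaps_involutions_of_even hn2 heven hhalf ga gb) hsa hsb hh
  exact ⟨K, inferInstance, inferInstance, hK.trans hF, hiso⟩

end Cfsg.Agent.Block.PSLSquare
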